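import Groth.Prelude.Def_PBC
import Mathlib.Algebra.Category.Ring.FilteredColimits
import Mathlib.RingTheory.Unramified.Field
import Mathlib.RingTheory.Unramified.Finite
import Mathlib.CategoryTheory.Limits.Types.Filtered
import Mathlib.CategoryTheory.Limits.Preserves.Over
import Mathlib.RingTheory.HopkinsLevitzki

/-!
Ind-étale algebras over a field.
-/

set_option autoImplicit false
set_option linter.style.haveILetI false

universe u

open CategoryTheory CategoryTheory.Limits
open scoped TensorProduct

namespace Groth.Agent.IndEtaleOps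

/-- Every element of an ind-étale algebra comes from an étale algebra, and a nilpotent one from a
nilpotent one. -/
theorem exists_etale_rep {A B : Type u} [CommRing A] [CommRing B] [Algebra A B]
    (h : EtPBC.IsIndEtale A B) (b : B) :
    ∃ (E : Type u) (_ : CommRing E) (_ : Algebra A E) (_ : Algebra.Etale A E) (φ : E →ₐ[A] B) (x : E),
      φ x = b ∧ (IsNilpotent b → ∃ (E' : Type u) (_ : CommRing E') (_ : Algebra A E')
        (_ : Algebra.Etale A E') (ψ : E →ₐ[A] E') (φ' : E' →ₐ[A] B),
          φ'.comp ψ = φ ∧ IsNilpotent (ψ x)) := by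
  obtain ⟨J, _, _, D, c, hc, hD, ⟨e⟩⟩ := h
  haveI := IsFiltered.isConnected J
  let c' := (forget CommRingCat.{u}).mapCocone ((Under.forget (CommRingCat.of A)).mapCocone c)
  have hc' : IsColimit c' :=
    isColimitOfPreserves _ (isColimitOfPreserves _ hc)
  let eB : c.pt ⟶ Under.mk (CommRingCat.ofHom (algebraMap A B)) := e.hom
  obtain ⟨j, (x : (D.obj j).right), (hx : (Under.Hom.right (c.ι.app j)).hom x = (Under.Hom.right e.inv).hom b)⟩ :=
    Types.jointly_surjective _ hc' ((Under.Hom.right e.inv).hom b)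
  have hb : (Under.Hom.right (c.ι.app j ≫ eB)).hom x = b := by
    show (Under.Hom.right eB).hom ((Under.Hom.right (c.ι.app j)).hom x) = b
    rw [hx]
    exact RingHom.congr_fun (congrArg (fun z : Under.mk (CommRingCat.ofHom (algebraMap A B)) ⟶ Under.mk (CommRingCat.ofHom (algebraMap A B)) => CommRingCat.Hom.hom (Under.Hom.right z)) e.inv_hom_id) b
  letI := (D.obj j).hom.hom.toAlgebra
  refine ⟨(D.obj j).right, inferInstance, inferInstance, hD j,
    { (Under.Hom.right (c.ι.app j ≫ eB)).hom with commutes' := fun r => RingHom.congr_fun (congrArg CommRingCat.Hom.hom (Under.w (c.ι.app j ≫ eB))) r }, x, hb, ?_⟩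
  rintro ⟨n, hn⟩
  have h0 : (Under.Hom.right (c.ι.app j)).hom (x ^ n) = (Under.Hom.right (c.ι.app j)).hom 0 := by
    rw [map_pow, hx, ← map_pow, hn, map_zero, map_zero]
  obtain ⟨k, f, (hk : (Under.Hom.right (D.map f)).hom (x ^ n) = (Under.Hom.right (D.map f)).hom 0)⟩ :=
    (Types.FilteredColimit.isColimit_eq_iff' (t := c') hc' (x ^ n : (D.obj j).right) (0 : (D.obj j).right)).1 h0
  letI := (D.obj k).hom.hom.toAlgebra
  refine ⟨(D.obj k).right, inferInstance, inferInstance, hD k,
    { (Under.Hom.right (D.map f)).hom with commutes' := fun r => RingHom.congr_fun (congrArg CommRingCat.Hom.hom (Under.w (D.map f))) r },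
    { (Under.Hom.right (c.ι.app k ≫ eB)).hom with commutes' := fun r => RingHom.congr_fun (congrArg CommRingCat.Hom.hom (Under.w (c.ι.app k ≫ eB))) r }, ?_, n, ?_⟩
  · ext y
    exact RingHom.congr_fun (congrArg (fun z : D.obj j ⟶ _ => CommRingCat.Hom.hom (Under.Hom.right (z ≫ eB))) (c.w f)) y
  · rw [← map_pow]
    exact hk.trans (map_zero _)

theorem isReduced_of_isIndEtale {K B : Type u} [Field K] [CommRing B] [Algebra K B]
    (h : EtPBC.IsIndEtale K B) : IsReduced B := by
  refine ⟨fun b hb => ?_⟩
  obtain ⟨E, _, _, _, φ, x, rfl, hn⟩ := exists_etale_rep h b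
  obtain ⟨E', _, _, _, ψ, φ', hcomp, hψ⟩ := hn hb
  haveI : IsReduced E' := Algebra.FormallyUnramified.isReduced_of_field K E'
  rw [← hcomp, AlgHom.comp_apply, hψ.eq_zero, map_zero]

theorem isIntegral_of_isIndEtale {K B : Type u} [Field K] [CommRing B] [Algebra K B]
    (h : EtPBC.IsIndEtale K B) : Algebra.IsIntegral K B := by
  refine ⟨fun b => ?_⟩
  obtain ⟨E, _, _, _, φ, x, rfl, -⟩ := exists_etale_rep h b
  haveI : Module.Finite K E := Algebra.FormallyUnramified.finite_of_free K E
  exact (Algebra.IsIntegral.isIntegral x).map φ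

theorem isSeparable_map {K B L : Type u} [Field K] [CommRing B] [Algebra K B] [Field L] [Algebra K L]
    (h : EtPBC.IsIndEtale K B) (ψ : B →ₐ[K] L) (b : B) : IsSeparable K (ψ b) := by
  obtain ⟨E, _, _, _, φ, x, rfl, -⟩ := exists_etale_rep h b
  haveI : Module.Finite K E := Algebra.FormallyUnramified.finite_of_free K E
  let g := ψ.comp φ
  let I : Ideal E := RingHom.ker g
  haveI : I.IsPrime := RingHom.ker_isPrime _
  haveI : IsArtinianRing E := IsArtinianRing.of_finite K E
  haveI : I.IsMaximal := IsArtinianRing.isMaximal_of_isPrime I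
  letI : Field (E ⧸ I) := Ideal.Quotient.field I
  haveI : Algebra.IsSeparable K (E ⧸ I) := Algebra.FormallyUnramified.isSeparable K (E ⧸ I)
  let f : E ⧸ I →ₐ[K] L := Ideal.Quotient.liftₐ I g fun _ h => h
  have hf : Function.Injective f := f.toRingHom.injective
  have h1 : IsSeparable K (Ideal.Quotient.mk I x) := Algebra.IsSeparable.isSeparable K _
  have h2 := IsSeparable.map f hf h1
  have e : f (Ideal.Quotient.mk I x) = ψ (φ x) := by
    simp only [f, Ideal.Quotient.liftₐ_apply, Ideal.Quotient.lift_mk, g]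
    rfl
  rw [e] at h2
  exact h2

/-- Residue extensions of an algebra whose fibre is ind-étale are separable. -/
theorem isSeparable_residueField {A B : Type u} [CommRing A] [CommRing B] [Algebra A B]
    (p : Ideal A) [p.IsPrime] (h : EtPBC.IsIndEtale p.ResidueField (p.Fiber B))
    (q : Ideal B) [q.IsPrime] [q.LiesOver p] :
      @Algebra.IsSeparable p.ResidueField q.ResidueField _ _
          (Ideal.ResidueField.mapₐ p q (Algebra.ofId A B) (q.over_def p)).toRingHom.toAlgebra := by
  let m := Ideal.ResidueField.mapₐ p q (Algebra.ofId A B) (q.over_def p)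
  letI := m.toRingHom.toAlgebra
  haveI : IsScalarTower A p.ResidueField q.ResidueField :=
    IsScalarTower.of_algebraMap_eq fun a => (m.commutes a).symm
  let ψ : p.Fiber B →ₐ[p.ResidueField] q.ResidueField :=
    Algebra.TensorProduct.lift (Algebra.ofId _ _) (IsScalarTower.toAlgHom A B q.ResidueField)
      (fun _ _ => Commute.all _ _)
  have hB : ∀ b : B, algebraMap B q.ResidueField b ∈ separableClosure p.ResidueField q.ResidueField := by
    intro b
    rw [mem_separableClosure_iff]
    have := isSeparable_map h ψ (1 ⊗ₜ b)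
    simpa [ψ] using this
  refine (separableClosure.eq_top_iff _ _).1 (eq_top_iff.2 fun z _ => ?_)
  obtain ⟨a, s, -, rfl⟩ := IsFractionRing.div_surjective (B ⧸ q) z
  obtain ⟨a, rfl⟩ := Ideal.Quotient.mk_surjective a
  obtain ⟨s, rfl⟩ := Ideal.Quotient.mk_surjective s
  exact div_mem (hB a) (hB s)

theorem finite_primes {A B : Type u} [CommRing A] [CommRing B] [Algebra A B] [IsNoetherianRing B]
    (p : Ideal A) [p.IsPrime] [Ring.KrullDimLE 0 (p.Fiber B)] :
    {q : PrimeSpectrum B | q.asIdeal.LiesOver p}.Finite := by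
  haveI : IsNoetherianRing (p.Fiber B) := by
    haveI : IsNoetherianRing (B ⊗[A] p.ResidueField) :=
      Algebra.EssFiniteType.isNoetherianRing B (B ⊗[A] p.ResidueField)
    exact isNoetherianRing_of_ringEquiv _ (Algebra.TensorProduct.comm A B p.ResidueField).toRingEquiv
  haveI : IsArtinianRing (p.Fiber B) := isArtinianRing_iff_krullDimLE_zero.2 inferInstance
  have hfin : (PrimeSpectrum.comap (algebraMap A B) ⁻¹' {⟨p, ‹_›⟩}).Finite :=
    Set.finite_coe_iff.1 (Finite.of_equiv _ (PrimeSpectrum.preimageEquivFiber A B ⟨p, ‹_›⟩).symm)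
  refine hfin.subset fun q hq => PrimeSpectrum.ext (hq.over).symm

end Groth.Agent.IndEtaleOps
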