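import Groth.Prelude.Def_PBC
import Mathlib.Algebra.Category.Ring.FinitePresentation
import Mathlib.CategoryTheory.MorphismProperty.Ind
import Mathlib.RingTheory.Smooth.NoetherianDescent
import Mathlib.RingTheory.RingHom.Etale
import Mathlib.RingTheory.Etale.Basic

/-!
Ind-étale ring maps: closed under filtered colimits and composition, and cancellation.
-/

set_option autoImplicit false
set_option linter.style.haveILetI false

universe u

open CategoryTheory CategoryTheory.Limits

namespace Groth.Agent.IndEtaleOps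

/-- Étale morphisms of rings. -/
abbrev E : MorphismProperty CommRingCat.{u} := RingHom.toMorphismProperty RingHom.Etale

instance : E.{u}.IsStableUnderCobaseChange :=
  RingHom.isStableUnderCobaseChange_toMorphismProperty_iff.2 RingHom.Etale.isStableUnderBaseChange

instance : E.{u}.RespectsIso :=
  RingHom.toMorphismProperty_respectsIso_iff.1 RingHom.Etale.respectsIso

lemma E_le_fp : E.{u} ≤ MorphismProperty.isFinitelyPresentable.{u} CommRingCat.{u} := by
  intro R S f (hf : f.hom.Etale)
  refine CommRingCat.isFinitelyPresentable_hom f ?_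
  algebraize [f.hom]
  exact RingHom.finitePresentation_algebraMap.2 inferInstance

theorem isIndEtale_iff (A B : Type u) [CommRing A] [CommRing B] [Algebra A B] :
    EtPBC.IsIndEtale A B ↔ MorphismProperty.ind.{u} E (CommRingCat.ofHom (algebraMap A B)) := by
  rw [MorphismProperty.ind_iff_ind_underMk]
  constructor
  · rintro ⟨J, _, _, D, c, hc, hD, ⟨e⟩⟩
    exact ⟨J, inferInstance, inferInstance,
      (ColimitPresentation.mk D c.ι hc).ofIso e, fun j => hD j⟩
  · rintro ⟨J, _, _, pres, hpres⟩
    exact ⟨J, inferInstance, inferInstance, pres.diag, Cocone.mk _ pres.ι, pres.isColimit,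
      fun j => hpres j, ⟨Iso.refl _⟩⟩

theorem ind_of_ind_ind {X Y : CommRingCat.{u}} {f : X ⟶ Y}
    (h : MorphismProperty.ind.{u} (MorphismProperty.ind.{u} E) f) : MorphismProperty.ind.{u} E f := by
  exact (MorphismProperty.ind_ind E_le_fp.{u}).le _ h

/-- Descent of an étale map out of a filtered colimit. -/
theorem exists_isPushout {J : Type u} [SmallCategory J] [IsFiltered J] {D : J ⥤ CommRingCat.{u}}
    {c : Cocone D} (hc : IsColimit c) {T : CommRingCat.{u}} (f : c.pt ⟶ T) (hf : E f) :
    ∃ (j : J) (T' : CommRingCat.{u}) (f' : D.obj j ⟶ T') (g : T' ⟶ T),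
      IsPushout (c.ι.app j) f' f g ∧ E f' := by
  obtain ⟨Z, _, _, ι₀, huniq⟩ : ∃ (Z : Type u) (_ : CommRing Z) (_ : IsNoetherianRing Z)
      (_ : ∀ (R : Type u) [CommRing R], Z →+* R), ∀ (R : Type u) [CommRing R] (a b : Z →+* R), a = b :=
    ⟨ULift.{u} ℤ, inferInstance, isNoetherianRing_of_ringEquiv ℤ (ULift.ringEquiv : ULift.{u} ℤ ≃+* ℤ).symm,
      fun R _ => (Int.castRingHom R).comp (ULift.ringEquiv : ULift.{u} ℤ ≃+* ℤ).toRingHom,
      fun R _ a b => RingHom.ext fun ⟨n⟩ => RingHom.congr_fun (RingHom.ext_int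
        (a.comp (ULift.ringEquiv : ULift.{u} ℤ ≃+* ℤ).symm.toRingHom)
        (b.comp (ULift.ringEquiv : ULift.{u} ℤ ≃+* ℤ).symm.toRingHom)) n⟩
  algebraize [f.hom]
  haveI : Algebra.Etale c.pt T := hf
  letI : Algebra Z c.pt := (ι₀ c.pt).toAlgebra
  letI : Algebra Z T := (ι₀ T).toAlgebra
  haveI : IsScalarTower Z c.pt T := IsScalarTower.of_algebraMap_eq' (huniq _ _ _)
  obtain ⟨S, D₀, _, _, hSfg, _, ⟨he⟩⟩ := Algebra.Etale.exists_subalgebra_fg (R := Z) (A := c.pt) (B := T)
  haveI : Algebra.FiniteType Z S := S.fg_iff_finiteType.1 hSfg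
  haveI : Algebra.FinitePresentation Z S := Algebra.FinitePresentation.of_finiteType.1 inferInstance
  let α : (Functor.const J).obj (CommRingCat.of Z) ⟶ D :=
    { app := fun i => CommRingCat.ofHom (ι₀ (D.obj i))
      naturality := fun _ _ _ => CommRingCat.hom_ext (huniq _ _ _) }
  obtain ⟨j, q, -, hq⟩ := RingHom.EssFiniteType.exists_eq_comp_ι_app_of_isColimit (CommRingCat.of Z) D α
    (CommRingCat.ofHom (algebraMap Z S)) c hc (RingHom.finitePresentation_algebraMap.2 inferInstance)
    (CommRingCat.ofHom S.val.toRingHom) (fun _ => CommRingCat.hom_ext (huniq _ _ _))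
  let d : CommRingCat.of S ⟶ CommRingCat.of D₀ := CommRingCat.ofHom (algebraMap S D₀)
  have hd : E d := RingHom.etale_algebraMap.2 inferInstance
  let r : CommRingCat.of D₀ ⟶ T :=
    CommRingCat.ofHom (Algebra.TensorProduct.includeRight (R := S) (A := c.pt) (B := D₀)).toRingHom ≫
      CommRingCat.ofHom he.symm.toRingEquiv.toRingHom
  have hpo : IsPushout (CommRingCat.ofHom S.val.toRingHom) d f r := by
    refine (CommRingCat.isPushout_tensorProduct S c.pt D₀).of_iso (Iso.refl _) (Iso.refl _) (Iso.refl _)
      (RingEquiv.toCommRingCatIso he.symm.toRingEquiv) ?_ ?_ ?_ ?_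
    · simp; rfl
    · simp [d]
    · ext b
      exact he.symm.commutes b
    · exact (Category.id_comp _).symm
  rw [hq] at hpo
  let g : pushout q d ⟶ T := pushout.desc (c.ι.app j ≫ f) r (by rw [← Category.assoc]; exact hpo.w)
  refine ⟨j, pushout q d, pushout.inl q d, g, ?_, E.pushout_inl _ _ hd⟩
  have hr : pushout.inr q d ≫ g = r := pushout.inr_desc _ _ _
  rw [← hr] at hpo
  exact hpo.of_left (pushout.inl_desc _ _ _).symm (IsPushout.of_hasPushout q d)

theorem E_comp {X Y Z : CommRingCat.{u}} {a : X ⟶ Y} {b : Y ⟶ Z} (ha : E a) (hb : E b) : E (a ≫ b) :=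
  RingHom.Etale.stableUnderComposition a.hom b.hom ha hb

theorem E_cancel {X Y Z : CommRingCat.{u}} {a : X ⟶ Y} {b : Y ⟶ Z} (ha : E a) (hab : E (a ≫ b)) : E b := by
  algebraize [a.hom, b.hom, (a ≫ b).hom]
  haveI : IsScalarTower X Y Z := IsScalarTower.of_algebraMap_eq' rfl
  haveI : Algebra.Etale X Y := ha
  haveI : Algebra.Etale X Z := hab
  exact (Algebra.Etale.of_restrictScalars X Y Z : Algebra.Etale Y Z)

set_option backward.defeqAttrib.useBackward true in
set_option backward.isDefEq.respectTransparency false in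
/-- Composition with an étale map. -/
theorem ind_comp_etale {X Y Z : CommRingCat.{u}} (f : X ⟶ Y) (g : Y ⟶ Z)
    (hf : MorphismProperty.ind.{u} E f) (hg : E g) : MorphismProperty.ind.{u} E (f ≫ g) := by
  obtain ⟨J, _, _, D, s, t, ht, h⟩ := hf
  obtain ⟨j, T', f', g', hpo, hf'⟩ := exists_isPushout ht g hg
  let D' : Under j ⥤ CommRingCat.{u} :=
    (Under.post D ⋙ Under.pushout f') ⋙ CategoryTheory.Under.forget _
  let c' : Cocone D' :=
    (Under.pushout f' ⋙ CategoryTheory.Under.forget _).mapCocone
      ((Cocone.mk _ t).underPost j) |>.extend hpo.isoPushout.inv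
  let hc' : IsColimit c' :=
    IsColimit.extendIso _ <| isColimitOfPreserves _ (ht.underPost j)
  let s' : (Functor.const (Under j)).obj X ⟶ D' :=
    { app k := s.app k.right ≫ pushout.inl _ _
      naturality k l a := by
        have h2 := s.naturality a.right
        simp only [Functor.const_obj_obj, Functor.const_obj_map, Category.id_comp] at h2
        simp [h2, D'] }
  refine ⟨Under j, inferInstance, inferInstance, D', s', c'.ι, hc', fun k => ⟨?_, ?_⟩⟩
  · exact E_comp (h k.right).1 (E.pushout_inl _ _ hf')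
  · simp [c', s', reassoc_of% (h k.right).2]

/-- Ind-étale maps compose. -/
theorem ind_comp {X Y Z : CommRingCat.{u}} (f : X ⟶ Y) (g : Y ⟶ Z)
    (hf : MorphismProperty.ind.{u} E f) (hg : MorphismProperty.ind.{u} E g) :
    MorphismProperty.ind.{u} E (f ≫ g) := by
  obtain ⟨J, _, _, D, s, t, ht, h⟩ := hg
  refine ind_of_ind_ind ⟨J, inferInstance, inferInstance, D, (Functor.const J).map f ≫ s, t, ht,
    fun k => ⟨ind_comp_etale f (s.app k) hf (h k).1, ?_⟩⟩
  show (f ≫ s.app k) ≫ t.app k = f ≫ g
  rw [Category.assoc, (h k).2]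

/-- Cancellation of an étale map. -/
theorem ind_cancel_etale {X Y Z : CommRingCat.{u}} (f : X ⟶ Y) (g : Y ⟶ Z)
    (hf : E f) (hfg : MorphismProperty.ind.{u} E (f ≫ g)) : MorphismProperty.ind.{u} E g := by
  obtain ⟨J, _, _, D, s, t, ht, h⟩ := hfg
  obtain ⟨j, q, hq, hqg⟩ := MorphismProperty.exists_hom_of_isFinitelyPresentable ht (E_le_fp _ hf) s g
    (fun i => (h i).2)
  refine ⟨Under j, inferInstance, inferInstance, Under.forget j ⋙ D,
    { app := fun k => q ≫ D.map k.hom,
      naturality := fun k l a => by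
        simp only [Functor.const_obj_obj, Functor.const_obj_map, Category.id_comp, Functor.comp_map,
          Category.assoc]
        exact (congrArg (fun m => q ≫ D.map m) (Under.w a).symm).trans (by rw [Functor.map_comp]; rfl) },
    Functor.whiskerLeft (Under.forget j) t,
    (Functor.Final.isColimitWhiskerEquiv (Under.forget j) _).symm ht, fun k => ⟨?_, ?_⟩⟩
  · refine E_cancel hf ?_
    have hn := s.naturality k.hom
    simp only [Functor.const_obj_obj, Functor.const_obj_map, Category.id_comp] at hn
    show E (f ≫ q ≫ D.map k.hom)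
    rw [← Category.assoc, hq, ← hn]
    exact (h _).1
  · show (q ≫ D.map k.hom) ≫ t.app k.right = g
    have hn := t.naturality k.hom
    simp only [Functor.const_obj_obj, Functor.const_obj_map, Category.comp_id] at hn
    rw [Category.assoc, hn]
    exact hqg

set_option backward.defeqAttrib.useBackward true in
set_option backward.isDefEq.respectTransparency false in
/-- Cancellation of an ind-étale map. -/
theorem ind_cancel {X Y Z : CommRingCat.{u}} (f : X ⟶ Y) (g : Y ⟶ Z)
    (hf : MorphismProperty.ind.{u} E f) (hfg : MorphismProperty.ind.{u} E (f ≫ g)) :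
    MorphismProperty.ind.{u} E g := by
  obtain ⟨J, _, _, D, s, t, ht, h⟩ := hf
  let ti : ∀ i, D.obj i ⟶ Y := fun i => t.app i
  have h' : ∀ i, (s.app i : X ⟶ D.obj i) ≫ ti i = f := fun i => (h i).2
  have hgi : ∀ i, MorphismProperty.ind.{u} E (ti i ≫ g) := fun i =>
    ind_cancel_etale ((s.app i : X ⟶ D.obj i)) _ (h i).1 (by rw [← Category.assoc, (h' i)]; exact hfg)
  have hn : ∀ {i k : J} (a : i ⟶ k), D.map a ≫ ti k = ti i := fun a => by
    exact (t.naturality a).trans (Category.comp_id _)
  let D' : J ⥤ CommRingCat.{u} :=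
    { obj := fun i => pushout (ti i) (ti i ≫ g)
      map := fun {i k} a => pushout.desc (pushout.inl _ _) (pushout.inr _ _)
        (by rw [← hn a, Category.assoc, pushout.condition, Category.assoc, Category.assoc, Category.assoc])
      map_id := fun i => pushout.hom_ext (by simp) (by simp)
      map_comp := fun a b => pushout.hom_ext (by simp) (by simp) }
  let s' : (Functor.const J).obj Y ⟶ D' :=
    { app := fun i => pushout.inl _ _
      naturality := fun i k a => by simp [D'] }
  let t' : D' ⟶ (Functor.const J).obj Z :=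
    { app := fun i => pushout.desc g (𝟙 Z) (Category.comp_id _).symm
      naturality := fun i k a => pushout.hom_ext (by simp [D']) (by simp [D']) }
  have hc : IsColimit (Cocone.mk Z t') := by
    have hw : ∀ (c : Cocone D') (i k : J), pushout.inr _ _ ≫ c.ι.app i = pushout.inr _ _ ≫ c.ι.app k := by
      intro c i k
      have key : ∀ {i k : J} (a : i ⟶ k),
          pushout.inr _ _ ≫ c.ι.app i = pushout.inr _ _ ≫ c.ι.app k := fun {i k} a => by
        rw [← c.w a]; simp [D']
      exact (key (IsFiltered.leftToMax i k)).trans (key (IsFiltered.rightToMax i k)).symm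
    have hv : ∀ (c : Cocone D') (i k : J), pushout.inl _ _ ≫ c.ι.app i = pushout.inl _ _ ≫ c.ι.app k := by
      intro c i k
      have key : ∀ {i k : J} (a : i ⟶ k),
          pushout.inl _ _ ≫ c.ι.app i = pushout.inl _ _ ≫ c.ι.app k := fun {i k} a => by
        rw [← c.w a]; simp [D']
      exact (key (IsFiltered.leftToMax i k)).trans (key (IsFiltered.rightToMax i k)).symm
    let i₀ : J := IsFiltered.nonempty.some
    refine { desc := fun c => (pushout.inr _ _ ≫ c.ι.app i₀ : Z ⟶ c.pt), fac := fun c i => ?_, uniq := fun c m hm => ?_ }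
    · apply pushout.hom_ext
      · simp only [t', pushout.inl_desc_assoc]
        refine ht.hom_ext fun k => ?_
        show ti k ≫ g ≫ pushout.inr _ _ ≫ c.ι.app i₀ = ti k ≫ pushout.inl _ _ ≫ c.ι.app i
        rw [hv c i k, hw c i₀ k]
        simp only [← Category.assoc]
        congr 1
        exact pushout.condition.symm
      · simp only [t', pushout.inr_desc_assoc]
        exact (Category.id_comp _).trans (hw c i₀ i)
    · rw [← hm i₀]
      simp [t']
  refine ind_of_ind_ind ⟨J, inferInstance, inferInstance, D', s', t', hc, fun i => ⟨?_, pushout.inl_desc _ _ _⟩⟩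
  exact (MorphismProperty.ind.{u} E).pushout_inl _ _ (hgi i)

end Groth.Agent.IndEtaleOps
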