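import Groth.Prelude.Def_PBC
import Groth.Agent.HenselLib.Unique
import Mathlib.Algebra.Category.Ring.Under.Basic

/-!
Lifting of maps out of ind-étale algebras into henselian pairs.
-/

set_option autoImplicit false
set_option linter.style.haveILetI false

universe u

open CategoryTheory CategoryTheory.Limits

namespace Groth.Agent.IndEtaleOps

/-- Maps from an ind-étale algebra into a henselian pair are determined by, and exist for, any map
modulo the ideal. -/
theorem existsUnique_lift_of_isIndEtale {R S S' : Type u} [CommRing R] [CommRing S] [CommRing S']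
    [Algebra R S] [Algebra R S'] (hS : EtPBC.IsIndEtale R S) (I : Ideal S') [HenselianRing S' I]
    (σ : S →ₐ[R] S' ⧸ I) : ∃! τ : S →ₐ[R] S', (Ideal.Quotient.mkₐ R I).comp τ = σ := by
  obtain ⟨J, _, _, D, c, hc, hD, ⟨e⟩⟩ := hS
  let T : Under (CommRingCat.of R) := Under.mk (CommRingCat.ofHom (algebraMap R S'))
  let Q : Under (CommRingCat.of R) := Under.mk (CommRingCat.ofHom (algebraMap R (S' ⧸ I)))
  let p : T ⟶ Q := Under.homMk (CommRingCat.ofHom (Ideal.Quotient.mk I)) rfl
  have key : ∀ (j : J) (s : D.obj j ⟶ Q), ∃! t : D.obj j ⟶ T, t ≫ p = s := by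
    intro j s
    letI := (D.obj j).hom.hom.toAlgebra
    haveI : Algebra.Etale R (D.obj j).right := hD j
    let s' : (D.obj j).right →ₐ[R] S' ⧸ I :=
      { (Under.Hom.right s).hom with commutes' := fun r => RingHom.congr_fun (congrArg CommRingCat.Hom.hom (Under.w s)) r }
    obtain ⟨t, ht, htu⟩ := HenselLib.existsUnique_lift I s'
    refine ⟨Under.homMk (CommRingCat.ofHom t.toRingHom) (CommRingCat.hom_ext t.comp_algebraMap), ?_, ?_⟩
    · ext x
      exact AlgHom.congr_fun ht x
    · intro t₂ ht₂
      let t₂' : (D.obj j).right →ₐ[R] S' :=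
        { (Under.Hom.right t₂).hom with commutes' := fun r => RingHom.congr_fun (congrArg CommRingCat.Hom.hom (Under.w t₂)) r }
      have := htu t₂' (AlgHom.ext fun x => RingHom.congr_fun
        (congrArg (fun z : D.obj j ⟶ Q => CommRingCat.Hom.hom (Under.Hom.right z)) ht₂) x)
      ext x
      exact AlgHom.congr_fun this x
  choose t ht htu using key
  let σ' : c.pt ⟶ Q := e.hom ≫ Under.homMk (CommRingCat.ofHom σ.toRingHom) (CommRingCat.hom_ext σ.comp_algebraMap)
  let cT : Cocone D :=
    { pt := T
      ι := { app := fun j => t j (c.ι.app j ≫ σ')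
             naturality := fun i j f => by
               refine (htu i (c.ι.app i ≫ σ') (D.map f ≫ t j (c.ι.app j ≫ σ')) ?_).trans (Category.comp_id _).symm
               simp only [Category.assoc]
               rw [ht, ← Category.assoc, c.w] } }
  let τ' := e.inv ≫ hc.desc cT
  let τ : S →ₐ[R] S' :=
    { (Under.Hom.right τ').hom with commutes' := fun r => RingHom.congr_fun (congrArg CommRingCat.Hom.hom (Under.w τ')) r }
  have hτ : τ' ≫ p = Under.homMk (CommRingCat.ofHom σ.toRingHom) (CommRingCat.hom_ext σ.comp_algebraMap) := by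
    rw [← cancel_epi e.hom]
    refine hc.hom_ext fun j => ?_
    simp only [τ', Category.assoc, Iso.hom_inv_id_assoc, hc.fac_assoc]
    exact ht j _
  refine ⟨τ, AlgHom.ext fun x => RingHom.congr_fun (congrArg (fun z : Under.mk (CommRingCat.ofHom (algebraMap R S)) ⟶ Q => CommRingCat.Hom.hom (Under.Hom.right z)) hτ) x, ?_⟩
  intro τ₂ hτ₂
  have h2 : e.hom ≫ Under.homMk (CommRingCat.ofHom τ₂.toRingHom) (CommRingCat.hom_ext τ₂.comp_algebraMap) =
      hc.desc cT := by
    refine hc.uniq cT _ fun j => htu j _ _ ?_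
    simp only [Category.assoc, σ']
    congr 2
    ext x
    exact AlgHom.congr_fun hτ₂ x
  have h3 : Under.homMk (CommRingCat.ofHom τ₂.toRingHom) (CommRingCat.hom_ext τ₂.comp_algebraMap) = τ' := by
    rw [show τ' = e.inv ≫ hc.desc cT from rfl, ← h2, Iso.inv_hom_id_assoc]
  exact AlgHom.ext fun x => RingHom.congr_fun (congrArg (fun z : Under.mk (CommRingCat.ofHom (algebraMap R S)) ⟶ T => CommRingCat.Hom.hom (Under.Hom.right z)) h3) x

end Groth.Agent.IndEtaleOps
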